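import Mathlib.Algebra.Group.Submonoid.Membership
import Mathlib.Data.Nat.Nth
import Mathlib.Data.Nat.Count
import Mathlib.Data.Set.Card
import Mathlib.Order.Interval.Set.Nat
import Mathlib.Tactic

/-! Combinatorics of numerical semigroups and their semimodules. -/

set_option autoImplicit false
open scoped Classical

namespace Groth.Agent.NumSemigroup

variable {Γ : AddSubmonoid ℕ} {c : ℕ}

theorem gap_of_mem (hc0 : c ≠ 0) (hc1 : c - 1 ∉ Γ) {x : ℕ} (hx : x ∈ Γ) (hxc : x < c) :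
    c - 1 - x ∉ Γ := fun h => hc1 (by
  have := Γ.add_mem hx h
  rwa [show x + (c - 1 - x) = c - 1 by omega] at this)

/-- In a symmetric numerical semigroup of multiplicity at least three every element beyond the conductor
splits off a positive element below the conductor. -/
theorem exists_decomp (hc : ∀ n : ℕ, c ≤ n → n ∈ Γ) (hc0 : c ≠ 0)
    (hsymm : ∀ x : ℕ, x < c → (x ∉ Γ ↔ c - 1 - x ∈ Γ))
    (h1 : (1 : ℕ) ∉ Γ) (h2 : (2 : ℕ) ∉ Γ) {n : ℕ} (hn : c ≤ n) :
    ∃ a ∈ Γ, a ≠ 0 ∧ a < c ∧ a ≤ n ∧ n - a ∈ Γ := by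
  have hc3 : 2 < c := by
    by_contra h
    exact h2 (hc 2 (by omega))
  have a1 : c - 1 - 1 ∈ Γ := (hsymm 1 (by omega)).1 h1
  have a2 : c - 1 - 2 ∈ Γ := (hsymm 2 hc3).1 h2
  have hex : ∃ a, a ∈ Γ ∧ a ≠ 0 := ⟨c, hc c le_rfl, hc0⟩
  set e := Nat.find hex
  obtain ⟨he, he0⟩ : e ∈ Γ ∧ e ≠ 0 := Nat.find_spec hex
  have hemin : ∀ γ ∈ Γ, γ ≠ 0 → e ≤ γ := fun γ h h' => Nat.find_min' hex ⟨h, h'⟩
  have he3 : 3 ≤ e := by
    rcases (show e = 1 ∨ e = 2 ∨ 3 ≤ e by omega) with h | h | h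
    · exact absurd (h ▸ he) h1
    · exact absurd (h ▸ he) h2
    · exact h
  have hec : e < c := by
    have := hemin _ a1 (by omega)
    omega
  by_contra hno
  push Not at hno
  -- every positive element below the conductor, translated down by `n - (c - 1)`, stays in `Γ`
  have key : ∀ a ∈ Γ, a ≠ 0 → a < c → n + 1 ≤ c + a ∧ a + c - 1 - n ∈ Γ := by
    intro a ha ha0 hac
    have hna := hno a ha ha0 hac (by omega)
    have hlt : n - a < c := by
      by_contra h
      exact hna (hc _ (by omega))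
    refine ⟨by omega, ?_⟩
    have := (hsymm _ hlt).1 hna
    rwa [show c - 1 - (n - a) = a + c - 1 - n by omega] at this
  obtain ⟨h3, h4⟩ := key e he he0 hec
  have hje : n = c - 1 + e := by
    by_contra hne
    have := hemin _ h4 (by omega)
    omega
  -- so every element below the conductor is a multiple of `e`
  have hdvd : ∀ a, a ∈ Γ → a < c → e ∣ a := by
    intro a
    induction a using Nat.strong_induction_on with
    | _ a ih =>
      intro ha hac
      rcases Nat.eq_zero_or_pos a with rfl | hpos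
      · exact dvd_zero _
      · obtain ⟨h5, h6⟩ := key a ha (by omega) hac
        have hle := hemin a ha (by omega)
        rw [show a + c - 1 - n = a - e by omega] at h6
        have := ih (a - e) (by omega) h6 (by omega)
        simpa [Nat.sub_add_cancel hle] using dvd_add this (dvd_refl e)
  have d1 := hdvd _ a1 (by omega)
  have d2 := hdvd _ a2 (by omega)
  have d3 : e ∣ 1 := by
    have := Nat.dvd_sub d1 d2
    rwa [show c - 1 - 1 - (c - 1 - 2) = 1 by omega] at this
  have := Nat.le_of_dvd one_pos d3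
  omega

theorem ncard_le_sub_one {A : Set ℕ} {e : ℕ} (he : e ≠ 0)
    (hinj : ∀ a ∈ A, ∀ b ∈ A, a < b → a % e = b % e → False) (h0 : ∀ a ∈ A, a % e ≠ 0) :
    A.encard ≤ ((e - 1 : ℕ) : ℕ∞) := by
  have hinj' : Set.InjOn (fun a => a % e) A := fun a ha b hb h => by
    rcases lt_trichotomy a b with h' | h' | h'
    · exact (hinj a ha b hb h' h).elim
    · exact h'
    · exact (hinj b hb a ha h' h.symm).elim
  rw [← hinj'.encard_image]
  refine (Set.encard_le_encard (t := Set.Ioo 0 e) ?_).trans ?_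
  · rintro _ ⟨a, ha, rfl⟩
    exact ⟨Nat.pos_of_ne_zero (h0 a ha), Nat.mod_lt _ (by omega)⟩
  · rw [← Finset.coe_Ioo, Set.encard_coe_eq_coe_finsetCard, Nat.card_Ioo]
    simp

theorem mul_mem {e : ℕ} (he : e ∈ Γ) (k : ℕ) : k * e ∈ Γ := by
  simpa using Γ.nsmul_mem he k

theorem sub_mem_of_mod_eq {e a b : ℕ} (he : e ∈ Γ) (hab : a ≤ b) (h : a % e = b % e) :
    b - a ∈ Γ := by
  obtain ⟨k, hk⟩ := (Nat.modEq_iff_dvd' hab).1 h
  rw [hk, mul_comm]
  exact mul_mem he k

section count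

variable {S : Set ℕ} {cS : ℕ}

theorem infinite_of_cofinite (hcS : ∀ n : ℕ, cS ≤ n → n ∈ S) :
    ({m | m ∈ S} : Set ℕ).Infinite :=
  (Set.Ici_infinite cS).mono fun n hn => hcS n hn

theorem ncard_inter_Iio (S : Set ℕ) (n : ℕ) :
    (S ∩ Set.Iio n).ncard = Nat.count (fun m => m ∈ S) n := by
  rw [Nat.count_eq_card_filter_range, ← Set.ncard_coe_finset]
  congr 1
  ext m
  simp [and_comm]

theorem count_add_ncard_compl (hcS : ∀ n : ℕ, cS ≤ n → n ∈ S) :
    Nat.count (fun m => m ∈ S) cS + Sᶜ.ncard = cS := by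
  have hsub : Sᶜ ⊆ Set.Iio cS := fun n hn => not_le.1 fun h => hn (hcS n h)
  have h := Set.ncard_inter_add_ncard_sdiff_eq_ncard (Set.Iio cS) S (Set.finite_Iio cS)
  rw [Set.inter_comm, Set.sdiff_eq, Set.inter_eq_right.2 hsub, ncard_inter_Iio,
    ← Finset.coe_Iio, Set.ncard_coe_finset, Nat.card_Iio] at h
  exact h

theorem nth_eq_add_of_le (hcS : ∀ n : ℕ, cS ≤ n → n ∈ S) {i : ℕ}
    (hi : Nat.count (fun m => m ∈ S) cS ≤ i) :
    Nat.nth (fun m => m ∈ S) i = i + Sᶜ.ncard := by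
  have h := count_add_ncard_compl hcS
  obtain ⟨j, rfl⟩ := Nat.exists_eq_add_of_le hi
  have hj : Nat.count (fun m => m ∈ S) (cS + j) = Nat.count (fun m => m ∈ S) cS + j := by
    rw [Nat.count_add]
    congr 1
    rw [Nat.count_eq_card_filter_range, Finset.filter_true_of_mem fun k _ => hcS _ (by omega),
      Finset.card_range]
  rw [← hj, Nat.nth_count (p := fun m => m ∈ S) (hcS _ (by omega)), hj]
  omega

theorem nth_lt_add_of_lt (hcS : ∀ n : ℕ, cS ≤ n → n ∈ S) (hcS1 : cS = 0 ∨ cS - 1 ∉ S) {i : ℕ}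
    (hi : i < Nat.count (fun m => m ∈ S) cS) :
    Nat.nth (fun m => m ∈ S) i < i + Sᶜ.ncard := by
  have h := count_add_ncard_compl hcS
  rcases hcS1 with rfl | hcS1
  · simp at hi
  set m := Nat.nth (fun m => m ∈ S) i with hm
  have hinf := infinite_of_cofinite hcS
  have hmc : m < cS := Nat.nth_lt_of_lt_count hi
  have hmS : m ∈ S := Nat.nth_mem_of_infinite hinf i
  have hne : m ≠ cS - 1 := fun h' => hcS1 (h' ▸ hmS)
  have hci : Nat.count (fun m => m ∈ S) m = i := Nat.count_nth_of_infinite hinf i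
  have h1 : Nat.count (fun m => m ∈ S) cS = Nat.count (fun m => m ∈ S) (cS - 1) := by
    conv_lhs => rw [show cS = cS - 1 + 1 by omega, Nat.count_succ, if_neg hcS1, add_zero]
  have h2 : Nat.count (fun m => m ∈ S) (cS - 1) ≤ i + (cS - 1 - m) := by
    conv_lhs => rw [show cS - 1 = m + (cS - 1 - m) by omega, Nat.count_add, hci]
    exact Nat.add_le_add_left (Nat.count_le _) _
  omega

theorem nth_le_add (hcS : ∀ n : ℕ, cS ≤ n → n ∈ S) (hcS1 : cS = 0 ∨ cS - 1 ∉ S) (i : ℕ) :
    Nat.nth (fun m => m ∈ S) i ≤ i + Sᶜ.ncard := by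
  rcases lt_or_ge i (Nat.count (fun m => m ∈ S) cS) with h | h
  · exact (nth_lt_add_of_lt hcS hcS1 h).le
  · exact (nth_eq_add_of_le hcS h).le

theorem count_insert_of_le {s n : ℕ} (h : n ≤ s) :
    Nat.count (fun m => m ∈ insert s S) n = Nat.count (fun m => m ∈ S) n := by
  simp only [Nat.count_eq_card_filter_range]
  congr 1
  apply Finset.filter_congr
  intro m hm
  have := Finset.mem_range.1 hm
  simp [show m ≠ s by omega]

theorem count_insert_of_lt {s n : ℕ} (hs : s ∉ S) (h : s < n) :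
    Nat.count (fun m => m ∈ insert s S) n = Nat.count (fun m => m ∈ S) n + 1 := by
  simp only [Nat.count_eq_card_filter_range]
  rw [← Finset.card_insert_of_notMem
    (show s ∉ (Finset.range n).filter (fun m => m ∈ S) by simp [hs])]
  congr 1
  ext m
  simp only [Finset.mem_filter, Finset.mem_range, Finset.mem_insert, Set.mem_insert_iff]
  constructor
  · rintro ⟨h1, rfl | h2⟩
    · exact Or.inl rfl
    · exact Or.inr ⟨h1, h2⟩
  · rintro (rfl | ⟨h1, h2⟩)
    · exact ⟨h, Or.inl rfl⟩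
    · exact ⟨h1, Or.inr h2⟩

end count

end Groth.Agent.NumSemigroup
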